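import Groth.Agent.HilbPoly.Stab
import Groth.Agent.QCoh.LocFree
import Groth.Agent.QCoh.Support
import Groth.Agent.QCoh.DevissageSum
import Groth.Agent.H23.TopDim
import Groth.Agent.KFlatLib.Scheme.Pullback
import Groth.Agent.KFlatLib.Scheme.Exact

/-!
# Vanishing of homomorphisms between semistable modules vanishing at a point
-/

set_option linter.style.haveILetI false
set_option linter.unusedSectionVars false
set_option backward.isDefEq.respectTransparency false
set_option backward.isDefEq.respectTransparency.types false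

universe u

open CategoryTheory CategoryTheory.Limits AlgebraicGeometry StabCat

noncomputable section

namespace Groth.Agent.HomVanish

open Groth.Agent

section Ring

/-- A map killed by extension of scalars along a surjection onto a nonzero ring has image in `m N`. -/
lemma mem_smul_top_of_extendScalars_eq_zero {R S : Type u} [CommRing R] [IsLocalRing R] [CommRing S]
    [Nontrivial S] (ψ : R →+* S) (hψ : Function.Surjective ψ) {M N : ModuleCat.{u} R} (φ : M ⟶ N)
    (h : (ModuleCat.extendScalars ψ).map φ = 0) (a : M) :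
    φ a ∈ IsLocalRing.maximalIdeal R • (⊤ : Submodule R N) := by
  set m := IsLocalRing.maximalIdeal R
  let σ : S →+* R ⧸ m := ψ.liftOfSurjective hψ
    ⟨Ideal.Quotient.mk m, by rw [Ideal.mk_ker]; exact IsLocalRing.le_maximalIdeal (RingHom.ker_ne_top ψ)⟩
  have hσ : ∀ r, σ (ψ r) = Ideal.Quotient.mk m r := fun r =>
    ψ.liftOfRightInverse_comp_apply _ _ _ r
  letI : Module S (N ⧸ m • (⊤ : Submodule R N)) := Module.compHom _ σ
  let T : ModuleCat.{u} S := ModuleCat.of S (N ⧸ m • (⊤ : Submodule R N))
  let q : N ⟶ (ModuleCat.restrictScalars ψ).obj T := ModuleCat.ofHom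
    (Y := (ModuleCat.restrictScalars ψ).obj T)
    { toFun := fun n => (Submodule.Quotient.mk n : N ⧸ m • (⊤ : Submodule R N))
      map_add' := fun _ _ => rfl
      map_smul' := fun r n => by
        show (Submodule.Quotient.mk (r • n) : N ⧸ m • (⊤ : Submodule R N)) = σ (ψ r) • Submodule.Quotient.mk n
        rw [hσ]
        rfl }
  let adj := ModuleCat.extendRestrictScalarsAdj.{u, u, u} ψ
  have h1 : φ ≫ q = 0 := by
    apply (adj.homEquiv M T).symm.injective
    rw [adj.homEquiv_naturality_left_symm, h, zero_comp]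
    symm
    rw [Equiv.symm_apply_eq, adj.homEquiv_unit, Functor.map_zero, comp_zero]
  exact (Submodule.Quotient.mk_eq_zero _).1 (LinearMap.congr_fun (congrArg ModuleCat.Hom.hom h1) a)

end Ring

variable {X : Scheme.{u}}

/-- The stalk of `g` at `x` has image in `m • B_x`. -/
def Small (x : X) {A B : X.Modules} (g : A ⟶ B) : Prop :=
  ∀ a, (DerSch.stalkFunctor X x).map g a ∈
    IsLocalRing.maximalIdeal (X.presheaf.stalk x) •
      (⊤ : Submodule (X.presheaf.stalk x) ((DerSch.stalkFunctor X x).obj B))

lemma small_comp_left (x : X) {A B C : X.Modules} (p : A ⟶ B) {g : B ⟶ C} (h : Small x g) :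
    Small x (p ≫ g) := fun a => by
  rw [Functor.map_comp, ModuleCat.comp_apply]
  exact h _

lemma small_comp_right (x : X) {A B C : X.Modules} {g : A ⟶ B} (h : Small x g) (q : B ⟶ C) :
    Small x (g ≫ q) := fun a => by
  rw [Functor.map_comp, ModuleCat.comp_apply]
  have := Submodule.mem_map_of_mem (f := ((DerSch.stalkFunctor X x).map q).hom) (h a)
  rw [Submodule.map_smul''] at this
  exact Submodule.smul_mono le_rfl le_top this

lemma small_of_epi_comp (x : X) {A B C : X.Modules} (p : A ⟶ B) [Epi p] {g : B ⟶ C}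
    (h : Small x (p ≫ g)) : Small x g := fun b => by
  obtain ⟨a, rfl⟩ := (ModuleCat.epi_iff_surjective ((DerSch.stalkFunctor X x).map p)).1 inferInstance b
  have := h a
  rwa [Functor.map_comp, ModuleCat.comp_apply] at this

/-- A small map through a submodule with projective quotient is small into the submodule. -/
lemma small_of_comp_mono (x : X) {S : ShortComplex X.Modules} (hS : S.ShortExact)
    [Module.Projective (X.presheaf.stalk x) ((DerSch.stalkFunctor X x).obj S.X₃)] {G : X.Modules}
    {h : G ⟶ S.X₁} (hg : Small x (h ≫ S.f)) : Small x h := fun a => by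
  haveI : Projective (S.map (DerSch.stalkFunctor X x)).X₃ :=
    (IsProjective.iff_projective _).1 (inferInstanceAs
      (Module.Projective (X.presheaf.stalk x) ((DerSch.stalkFunctor X x).obj S.X₃)))
  let sp := ((KFlatLib.shortExact_iff_stalk S).1 hS x).splittingOfProjective
  have := Submodule.mem_map_of_mem (f := sp.r.hom) (hg a)
  rw [Submodule.map_smul''] at this
  have e : sp.r ((DerSch.stalkFunctor X x).map (h ≫ S.f) a) = (DerSch.stalkFunctor X x).map h a := by
    rw [Functor.map_comp, ModuleCat.comp_apply]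
    exact LinearMap.congr_fun (congrArg ModuleCat.Hom.hom sp.f_r) _
  rw [← e]
  exact Submodule.smul_mono le_rfl le_top this

/-- An isomorphism which is small has zero stalk. -/
lemma subsingleton_of_small_iso (x : X) {A B : X.Modules} (g : A ⟶ B) [IsIso g] (h : Small x g)
    (hB : Coh.IsCoh B) : Subsingleton (B.presheaf.stalk x) := by
  haveI : Module.Finite (X.presheaf.stalk x) ((DerSch.stalkFunctor X x).obj B) :=
    QCoh.finite_stalk_of_isFT hB.1 hB.2 x
  have hle : (⊤ : Submodule (X.presheaf.stalk x) ((DerSch.stalkFunctor X x).obj B)) ≤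
      IsLocalRing.maximalIdeal (X.presheaf.stalk x) • ⊤ := fun b _ => by
    obtain ⟨a, rfl⟩ := (ModuleCat.epi_iff_surjective ((DerSch.stalkFunctor X x).map g)).1 inferInstance b
    exact h a
  have hbot := Submodule.eq_bot_of_le_smul_of_le_jacobson_bot _ _ Module.Finite.fg_top hle
    (IsLocalRing.maximalIdeal_le_jacobson _)
  exact Submodule.subsingleton_iff (X.presheaf.stalk x) |>.1 (subsingleton_of_bot_eq_top hbot.symm)

/-- Free stalk from a local trivialisation. -/
theorem free_stalk_of_nhd {M : X.Modules} (hM : Coh.IsQCoh M) {x : X} {U : X.Opens} (hx : x ∈ U)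
    (h : FlatMod.IsFinLocFree (M.restrict U.ι)) :
    Module.Free (X.presheaf.stalk x) (M.presheaf.stalk x) := by
  obtain ⟨V, n, hxV, ⟨e⟩⟩ := h ⟨x, hx⟩
  let W : X.Opens := U.ι ''ᵁ V
  have hu : ((U.ι.isoImage V).inv ≫ V.ι) ≫ U.ι = W.ι := by simp [W]
  let e' : M.restrict W.ι ≅ FlatMod.freeMod (W : Scheme.{u}) n :=
    ((Scheme.Modules.restrictFunctorCongr hu).app M).symm ≪≫ (QCoh.restrictRestrict _ _ _).symm ≪≫
      (QCoh.restrictRestrict _ _ _).symm ≪≫ (Scheme.Modules.restrictFunctor _).mapIso e ≪≫
      QCoh.freeModRestrict _ n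
  have hxW : x ∈ W := ⟨⟨x, hx⟩, hxV, rfl⟩
  obtain ⟨V', hV, hxV', hle⟩ := exists_isAffineOpen_mem_and_subset (U := W) hxW
  obtain ⟨l⟩ := QCoh.exists_linearEquiv_of_freeIso (QCoh.freeChart hV hle e')
  haveI : Module.Free Γ(X, V') Γ(M, V') := Module.Free.of_equiv ((QCoh.chartEquiv hV M).trans l).symm
  letI := QCoh.stalkAlg (X := X) hxV'
  letI := QCoh.stalkModule M hxV'
  haveI := QCoh.isScalarTower_stalk M hxV'
  haveI := QCoh.isLocalization_stalk' hV hxV'
  haveI := QCoh.isLocalizedModule_germLin hM hV hxV'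
  exact Module.free_of_isLocalizedModule (hV.primeIdealOf ⟨x, hxV'⟩).asIdeal.primeCompl (QCoh.germLin M hxV')

/-- The stalks of the factors are projective where the graded module is locally free. -/
theorem projective_factor [IsLocallyNoetherian X] {F : X.Modules} (s : LTSeries (Subobject F))
    (hc : ∀ i, Coh.IsCoh (factor s i)) {x : X} {U : X.Opens} (hx : x ∈ U)
    (h : FlatMod.IsFinLocFree ((grObj s).restrict U.ι)) (i : Fin s.length) :
    Module.Projective (X.presheaf.stalk x) ((DerSch.stalkFunctor X x).obj (factor s i)) := by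
  classical
  haveI : HasFiniteBiproducts X.Modules := HasFiniteBiproducts.of_hasFiniteProducts
  have hg : Coh.IsCoh (⨁ (factor s ∘ ULift.down : ULift.{u} (Fin s.length) → X.Modules)) :=
    QCoh.isCoh_biproduct _ fun j => hc j.down
  have e : (⨁ (factor s ∘ ULift.down : ULift.{u} (Fin s.length) → X.Modules)) ≅ grObj s :=
    biproduct.whiskerEquiv (f := factor s ∘ ULift.down) (g := factor s) Equiv.ulift.{u} (fun _ => Iso.refl _) ≪≫
      biproduct.isoCoproduct (factor s)
  haveI : Module.Free (X.presheaf.stalk x) ((DerSch.stalkFunctor X x).obj (grObj s)) :=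
    free_stalk_of_nhd ((QCoh.isQCoh_iff_iso e).1 hg.1) hx h
  let a : factor s i ⟶ grObj s := Sigma.ι _ i
  let b : grObj s ⟶ factor s i := Sigma.desc (Pi.single i (𝟙 (factor s i)))
  have hab : a ≫ b = 𝟙 _ := by simp [a, b]
  refine Module.Projective.of_split ((DerSch.stalkFunctor X x).map a).hom
    ((DerSch.stalkFunctor X x).map b).hom ?_
  rw [← ModuleCat.hom_comp, ← Functor.map_comp, hab, CategoryTheory.Functor.map_id]
  rfl

variable {k : Type u} [Field k] [X.Over (Spec (CommRingCat.of k))]
  [IsProper (X ↘ Spec (CommRingCat.of k))] {L : X.Modules} {d : ℕ}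

lemma redEq_trans {P Q R : Polynomial ℚ} (hQ : alpha d Q ≠ 0) (h1 : RedEq d P Q) (h2 : RedEq d Q R) :
    RedEq d P R := by
  refine smul_right_injective _ hQ ?_
  show alpha d Q • (alpha d R • P) = alpha d Q • (alpha d P • R)
  rw [smul_comm, show alpha d Q • P = alpha d P • Q from h1, smul_comm,
    show alpha d R • Q = alpha d Q • R from h2, smul_comm]

/-- A small map from a stable module to a module filtered by stables of the same reduced polynomial is zero. -/
theorem eq_zero_of_small [IrreducibleSpace X] (hL : CohB1.IsAmple L)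
    (hX : topologicalKrullDim X = (d : WithBot ℕ∞)) {F : X.Modules} (hFc : Coh.IsCoh F)
    (hFp : ShStab.IsPure X F d) (hF0 : ¬ IsZero F) {pF : Polynomial ℚ}
    (hpF : ShStab.IsHilbPoly k X L F pF) (s : LTSeries (Subobject F))
    (hs : ShStab.IsJHFiltration k X L F d s) (x : X)
    (hproj : ∀ i, Module.Projective (X.presheaf.stalk x) ((DerSch.stalkFunctor X x).obj (factor s i)))
    {G : X.Modules} (hG : ShStab.IsStable k X L G d)
    (hGp : ∀ q, ShStab.IsHilbPoly k X L G q → RedEq d q pF) (g : G ⟶ F) (hg : Small x g) : g = 0 := by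
  have hαF := HilbPoly.alpha_pos hL hFc (HilbPoly.dim_of_isPure hFp hFc hF0) hpF
  obtain ⟨qG, hqG, -, -⟩ := HilbPoly.exists_hilb (k := k) hL.1 hG.1 (HilbPoly.dim_le_of_isPure hG.2.2.1 hG.1)
  suffices h : ∀ (i : Fin (s.length + 1)) (g : G ⟶ (s i : X.Modules)), Small x g → g = 0 by
    have hlast : s (Fin.last _) = ⊤ := hs.2.1
    haveI : IsIso (s (Fin.last _)).arrow := (Subobject.isIso_arrow_iff_eq_top _).2 hlast
    have := h _ (g ≫ inv (s (Fin.last _)).arrow) (small_comp_right x hg _)
    rw [← cancel_mono (inv (s (Fin.last _)).arrow), this, zero_comp]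
  intro i
  induction i using Fin.induction with
  | zero =>
    intro g _
    have h0 : s 0 = ⊥ := hs.1
    have hz : IsZero ((s 0 : Subobject F) : X.Modules) := by
      rw [h0]; exact (isZero_zero _).of_iso Subobject.botCoeIsoZero
    exact hz.eq_of_tgt _ _
  | succ j ih =>
    intro g hg
    set ι := Subobject.ofLE (s j.castSucc) (s j.succ) (le_of_lt (s.step j))
    obtain ⟨hst, hq⟩ := hs.2.2 j
    by_cases hz : g ≫ cokernel.π ι = 0
    · let S : ShortComplex X.Modules := ShortComplex.mk ι (cokernel.π ι) (cokernel.condition ι)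
      have hS : S.ShortExact :=
        .mk' (ShortComplex.exact_of_g_is_cokernel _ (cokernelIsCokernel _)) inferInstance inferInstance
      haveI : Module.Projective (X.presheaf.stalk x) ((DerSch.stalkFunctor X x).obj S.X₃) := hproj j
      have hfac : Abelian.monoLift ι g hz ≫ ι = g := Abelian.monoLift_comp ι g hz
      have hh : Small x (Abelian.monoLift ι g hz) := small_of_comp_mono x hS (by
        show Small x (_ ≫ ι)
        rw [hfac]; exact hg)
      rw [← hfac, ih _ hh, zero_comp]
    · exfalso
      let φ : G ⟶ factor s j := g ≫ cokernel.π ι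
      have hφ : φ ≠ 0 := hz
      obtain ⟨qQ, hqQ, -, -⟩ := HilbPoly.exists_hilb (k := k) hL.1 hst.1
        (HilbPoly.dim_le_of_isPure hst.2.2.1 hst.1)
      have hred : RedEq d qG qQ := redEq_trans hαF.ne' (hGp _ hqG) (hq _ _ hqQ hpF).symm
      have hme := HilbPoly.mono_and_epi hL (HilbPoly.isSemistable_of_isStable hG)
        (HilbPoly.isSemistable_of_isStable hst) hqG hqQ hred hφ
      haveI := hme.1 hG
      haveI := hme.2 hst
      haveI : IsIso φ := isIso_of_mono_of_epi φ
      have hsub := subsingleton_of_small_iso x φ (small_comp_right x hg _) hst.1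
      have huniv : CohB1.support (factor s j) ≠ Set.univ := fun he => by
        have : x ∈ CohB1.support (factor s j) := he ▸ Set.mem_univ x
        exact this hsub
      have hlt := H23.TopDim.dim_lt_of_ssubset (by rw [hX]; exact WithBot.coe_injective.ne (ENat.natCast_ne_top d))
        (QCoh.isClosed_support_of_isFT hst.1.1 hst.1.2) huniv
      rw [HilbPoly.dim_of_isPure hst.2.2.1 hst.1 hst.2.1, hX] at hlt
      exact lt_irrefl _ hlt

/-- The morphism statement. -/
theorem hom_eq_zero [IrreducibleSpace X] (hL : CohB1.IsAmple L)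
    (hX : topologicalKrullDim X = (d : WithBot ℕ∞)) {E F : X.Modules}
    (hE : ShStab.IsSemistable k X L E d) (hF : ShStab.IsSemistable k X L F d) {pE pF : Polynomial ℚ}
    (hpE : ShStab.IsHilbPoly k X L E pE) (hpF : ShStab.IsHilbPoly k X L F pF) (hred : RedEq d pE pF)
    (sE : LTSeries (Subobject E)) (hsE : ShStab.IsJHFiltration k X L E d sE)
    (sF : LTSeries (Subobject F)) (hsF : ShStab.IsJHFiltration k X L F d sF) (x : X)
    (hproj : ∀ i, Module.Projective (X.presheaf.stalk x) ((DerSch.stalkFunctor X x).obj (factor sF i)))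
    (f : E ⟶ F) (hf : Small x f) : f = 0 := by
  have hαE := HilbPoly.alpha_pos hL hE.1 (HilbPoly.dim_of_isPure hE.2.2.1 hE.1 hE.2.1) hpE
  suffices h : ∀ i : Fin (sE.length + 1), (sE i).arrow ≫ f = 0 by
    have hlast : sE (Fin.last _) = ⊤ := hsE.2.1
    haveI : IsIso (sE (Fin.last _)).arrow := (Subobject.isIso_arrow_iff_eq_top _).2 hlast
    exact (cancel_epi (sE (Fin.last _)).arrow).1 ((h _).trans comp_zero.symm)
  intro i
  induction i using Fin.induction with
  | zero =>
    have h0 : sE 0 = ⊥ := hsE.1
    have hz : IsZero ((sE 0 : Subobject E) : X.Modules) := by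
      rw [h0]; exact (isZero_zero _).of_iso Subobject.botCoeIsoZero
    exact hz.eq_of_src _ _
  | succ j ih =>
    set ι := Subobject.ofLE (sE j.castSucc) (sE j.succ) (le_of_lt (sE.step j))
    have hw : ι ≫ (sE j.succ).arrow ≫ f = 0 := by rw [Subobject.ofLE_arrow_assoc, ih]
    let h : factor sE j ⟶ F := cokernel.desc ι ((sE j.succ).arrow ≫ f) hw
    obtain ⟨hst, hq⟩ := hsE.2.2 j
    have hh : Small x h := small_of_epi_comp x (cokernel.π ι) (by
      rw [cokernel.π_desc]; exact small_comp_left x _ hf)
    have := eq_zero_of_small hL hX hF.1 hF.2.2.1 hF.2.1 hpF sF hsF x hproj hst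
      (fun q hq' => redEq_trans hαE.ne' (hq q pE hq' hpE) hred) h hh
    rw [← cokernel.π_desc ι ((sE j.succ).arrow ≫ f) hw]
    show cokernel.π ι ≫ h = 0
    rw [this, comp_zero]

/-- Vanishing of the pullback along a section gives smallness. -/
lemma small_of_pullback_eq_zero {Y : Scheme.{u}} (ξ : Y ⟶ X) [IsPreimmersion ξ] (y : Y)
    {E F : X.Modules} (f : E ⟶ F) (hf : (Scheme.Modules.pullback ξ).map f = 0) :
    Small (ξ.base y) f := fun a => by
  haveI : Nontrivial (Y.presheaf.stalk y) := inferInstance
  refine mem_smul_top_of_extendScalars_eq_zero (ξ.stalkMap y).hom (ξ.stalkMap_surjective y) _ ?_ a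
  have h := (KFlatLib.stalkPullbackIso ξ y).hom.naturality f
  simp only [Functor.comp_map, hf, Functor.map_zero, zero_comp] at h
  rw [← cancel_epi ((KFlatLib.stalkPullbackIso ξ y).hom.app E), ← h, comp_zero]

end Groth.Agent.HomVanish
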