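import Groth.Agent.HomVanish.Basic
import Groth.Agent.S1393
import Groth.Agent.KZ.LFRes
import Groth.Agent.QCoh.PullStalk
import Groth.Agent.H23.GysinPb
import Groth.Agent.FlatDvr.FibreStalk

/-!
# Local freeness from a free graded module on a fibre
-/

set_option linter.style.haveILetI false
set_option linter.unusedSectionVars false
set_option backward.isDefEq.respectTransparency false
set_option backward.isDefEq.respectTransparency.types false

universe u

open CategoryTheory CategoryTheory.Limits AlgebraicGeometry StabCat TensorProduct IsLocalRing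

noncomputable section

namespace Groth.Agent.HomVanish

open Groth.Agent

variable {X : Scheme.{u}}

/-- The stalk of a filtered module with projective factors is projective. -/
theorem projective_of_filtration (x : X) {F : X.Modules} (s : LTSeries (Subobject F))
    (h0 : s.head = ⊥) (h1 : s.last = ⊤)
    (hp : ∀ i, Module.Projective (X.presheaf.stalk x) ((DerSch.stalkFunctor X x).obj (factor s i))) :
    Module.Projective (X.presheaf.stalk x) ((DerSch.stalkFunctor X x).obj F) := by
  suffices h : ∀ i : Fin (s.length + 1),
      Module.Projective (X.presheaf.stalk x) ((DerSch.stalkFunctor X x).obj (s i : X.Modules)) by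
    have hlast : s (Fin.last _) = ⊤ := h1
    haveI : IsIso (s (Fin.last _)).arrow := (Subobject.isIso_arrow_iff_eq_top _).2 hlast
    haveI := h (Fin.last _)
    exact Module.Projective.of_equiv ((DerSch.stalkFunctor X x).mapIso (asIso (s (Fin.last _)).arrow)).toLinearEquiv
  intro i
  induction i using Fin.induction with
  | zero =>
    have h0' : s 0 = ⊥ := h0
    have hz : IsZero ((s 0 : Subobject F) : X.Modules) := by
      rw [h0']; exact (isZero_zero _).of_iso Subobject.botCoeIsoZero
    haveI := ModuleCat.subsingleton_of_isZero ((DerSch.stalkFunctor X x).map_isZero hz)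
    exact Module.Projective.of_free
  | succ j ih =>
    let ι := Subobject.ofLE (s j.castSucc) (s j.succ) (le_of_lt (s.step j))
    let S : ShortComplex X.Modules := ShortComplex.mk ι (cokernel.π ι) (cokernel.condition ι)
    have hS : S.ShortExact :=
      .mk' (ShortComplex.exact_of_g_is_cokernel _ (cokernelIsCokernel _)) inferInstance inferInstance
    haveI : Module.Projective (X.presheaf.stalk x) (S.map (DerSch.stalkFunctor X x)).X₁ := ih
    haveI : Module.Projective (X.presheaf.stalk x) (S.map (DerSch.stalkFunctor X x)).X₃ := hp j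
    haveI : Projective (S.map (DerSch.stalkFunctor X x)).X₃ :=
      (IsProjective.iff_projective _).1 (inferInstanceAs
        (Module.Projective (X.presheaf.stalk x) (S.map (DerSch.stalkFunctor X x)).X₃))
    haveI : HasFiniteBiproducts (ModuleCat.{u} (X.presheaf.stalk x)) := HasFiniteBiproducts.of_hasFiniteProducts
    let e := ((KFlatLib.shortExact_iff_stalk S).1 hS x).splittingOfProjective.isoBinaryBiproduct ≪≫
      ModuleCat.biprodIsoProd _ _
    exact Module.Projective.of_equiv e.toLinearEquiv.symm

lemma map_maximalIdeal_stalkSpecializes {a b : X} (h : a = b) :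
    (maximalIdeal (X.presheaf.stalk b)).map (X.presheaf.stalkSpecializes (specializes_of_eq h)).hom =
      maximalIdeal (X.presheaf.stalk a) := by
  subst h
  rw [TopCat.Presheaf.stalkSpecializes_refl]
  exact Ideal.map_id _

lemma ker_stalkMap_field {S : Scheme.{u}} {k : Type u} [Field k] (t : Spec (CommRingCat.of k) ⟶ S)
    (p : Spec (CommRingCat.of k)) : RingHom.ker (t.stalkMap p).hom = maximalIdeal _ := by
  refine le_antisymm (le_maximalIdeal (RingHom.ker_ne_top _)) fun a ha => ?_
  exact (FlatDvr.eq_zero_or_isUnit_stalk_field k p _).resolve_right fun hu => ha (isUnit_of_map_unit _ a hu)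

/-- Free stalk on the fibre over a closed rational point gives local freeness. -/
theorem exists_free_of_fibre {S : Scheme.{u}} [IsLocallyNoetherian X] (f : X ⟶ S) [LocallyOfFinitePresentation f]
    [QuasiCompact f] [QuasiSeparated f] (F : X.Modules) (hF : Coh.IsCoh F) (hfl : FlatMod.IsFlatOver f F)
    {k : Type u} [Field k] (t : Spec (CommRingCat.of k) ⟶ S) [IsClosedImmersion t]
    (z : (pullback f t : Scheme.{u}))
    (hflat : Module.Flat ((pullback f t).presheaf.stalk z)
      (((Scheme.Modules.pullback (pullback.fst f t)).obj F).presheaf.stalk z)) :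
    ∃ (U : X.Opens) (n : ℕ), pullback.fst f t z ∈ U ∧ Nonempty (F.restrict U.ι ≅ FlatMod.freeMod (↑U) n) := by
  let x := pullback.fst f t z
  let φ := ((pullback.fst f t).stalkMap z).hom
  set I := Ideal.map (f.stalkMap x).hom (maximalIdeal ↑(S.presheaf.stalk (f x))) with hI
  have hker : RingHom.ker φ = I := by
    rw [H23.GysinPb.ker_stalkMap_fst, ker_stalkMap_field, H23.GysinPb.baseMap, CommRingCat.hom_comp,
      ← Ideal.map_map, map_maximalIdeal_stalkSpecializes (H23.GysinPb.apply_fst_eq f t z)]
  have hsur : Function.Surjective φ := (pullback.fst f t).stalkMap_surjective z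
  obtain ⟨e⟩ := QCoh.nonempty_pullStalkEquiv (pullback.fst f t) hF.1 z
  letI : Algebra (X.presheaf.stalk x) ((pullback f t).presheaf.stalk z) := φ.toAlgebra
  haveI : Module.Flat ((pullback f t).presheaf.stalk z)
      (((pullback f t).presheaf.stalk z) ⊗[X.presheaf.stalk x] (F.presheaf.stalk x)) :=
    Module.Flat.of_linearEquiv e.symm
  let g : {g : ↑(X.presheaf.stalk x) →+* ↑(X.presheaf.stalk x) ⧸ I // RingHom.ker φ ≤ RingHom.ker g} :=
    ⟨Ideal.Quotient.mk I, by rw [Ideal.mk_ker, hker]⟩
  let θ : ((pullback f t).presheaf.stalk z) →+* (X.presheaf.stalk x) ⧸ I := φ.liftOfSurjective hsur g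
  letI := θ.toAlgebra
  haveI : IsScalarTower (X.presheaf.stalk x) ((pullback f t).presheaf.stalk z) ((X.presheaf.stalk x) ⧸ I) :=
    IsScalarTower.of_algebraMap_eq' (φ.liftOfSurjective_comp hsur g).symm
  refine S1393.result f F hF.1 (KZ.LFRes.isFP_of_isCoh hF) x (hfl x) ?_
  exact Module.Flat.of_linearEquiv
    (((AlgebraTensorModule.cancelBaseChange (X.presheaf.stalk x) ((pullback f t).presheaf.stalk z)
      ((X.presheaf.stalk x) ⧸ I) ((X.presheaf.stalk x) ⧸ I) (F.presheaf.stalk x)) ≪≫ₗ
      ((quotTensorEquivQuotSMul (F.presheaf.stalk x) I).extendScalarsOfSurjective Ideal.Quotient.mk_surjective)).symm)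

lemma isFinLocFree_of_free_restrict {M : X.Modules} {U : X.Opens} {n : ℕ}
    (e : M.restrict U.ι ≅ FlatMod.freeMod (↑U) n) : FlatMod.IsFinLocFree (M.restrict U.ι) := fun _ =>
  ⟨⊤, n, trivial, ⟨(Scheme.Modules.restrictFunctor _).mapIso e ≪≫ QCoh.freeModRestrict _ n⟩⟩

end Groth.Agent.HomVanish
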