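import Groth.Agent.HomVanish.Fibre
import Groth.Agent.HilbPoly.JH
import Groth.Agent.HilbPoly.Abelian

/-!
# Stable subquotients of semistable modules with the same reduced polynomial
-/

set_option linter.style.haveILetI false
set_option linter.unusedSectionVars false
set_option backward.isDefEq.respectTransparency false
set_option backward.isDefEq.respectTransparency.types false

universe u

open CategoryTheory CategoryTheory.Limits AlgebraicGeometry StabCat

noncomputable section

namespace Groth.Agent.HomVanish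

open Groth.Agent

variable {X : Scheme.{u}} {k : Type u} [Field k] [X.Over (Spec (CommRingCat.of k))]
  [IsProper (X ↘ Spec (CommRingCat.of k))] {L : X.Modules} {d : ℕ} {E : X.Modules} {pE : Polynomial ℚ}

/-- A submodule of the reduced polynomial of the semistable module. -/
structure GoodSub (k : Type u) [Field k] [X.Over (Spec (CommRingCat.of k))] (L : X.Modules) (d : ℕ)
    (pE : Polynomial ℚ) {E U : X.Modules} (a : U ⟶ E) : Prop where
  mono : Mono a
  coh : Coh.IsCoh U
  red : ∀ p, ShStab.IsHilbPoly k X L U p → RedEq d p pE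

theorem GoodSub.semistable (hL : CohB1.IsAmple L) (hE : ShStab.IsSemistable k X L E d)
    (hpE : ShStab.IsHilbPoly k X L E pE) {U : X.Modules} {a : U ⟶ E} (h : GoodSub k L d pE a)
    (h0 : ¬ IsZero U) : ShStab.IsSemistable k X L U d := by
  haveI := h.mono
  have hp : ShStab.IsPure X U d := fun W w hw hW hW0 => hE.2.2.1 W (w ≫ a) (mono_comp _ _) hW hW0
  refine ⟨h.coh, h0, hp, fun W w hw hW hW0 _ q pU hq hpU => ?_⟩
  haveI := hw
  have hαE := HilbPoly.alpha_pos hL hE.1 (HilbPoly.dim_of_isPure hE.2.2.1 hE.1 hE.2.1) hpE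
  have hαU := HilbPoly.alpha_pos hL h.coh (HilbPoly.dim_of_isPure hp h.coh h0) hpU
  have hle : RedLE d q pE := by
    by_cases hi : IsIso (w ≫ a)
    · haveI := hi
      rw [HilbPoly.isHilbPoly_unique (HilbPoly.hilb_iso (asIso (w ≫ a)) hq) hpE]
      exact ⟨0, fun m _ => le_rfl⟩
    exact hE.2.2.2 W (w ≫ a) (mono_comp _ _) hW hW0 hi q pE hq hpE
  have hdW := HilbPoly.dim_mono hW h.coh w (HilbPoly.dim_le_of_isPure hp h.coh)
  refine HilbPoly.redLE_trans (HilbPoly.alpha_nonneg hL hW hdW hq) hαE hαU.le hle ?_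
  have he : alpha d pE • pU = alpha d pU • pE := h.red pU hpU
  exact ⟨0, fun m _ => (congrArg (Polynomial.eval (m : ℚ)) he.symm).le⟩

/-- The kernel of a morphism from a good submodule to a semistable module of the same reduced polynomial. -/
theorem GoodSub.kernel (hL : CohB1.IsAmple L) (hE : ShStab.IsSemistable k X L E d)
    (hpE : ShStab.IsHilbPoly k X L E pE) {U : X.Modules} {a : U ⟶ E} (h : GoodSub k L d pE a) (h0 : ¬ IsZero U)
    {C : X.Modules} (hC : ShStab.IsSemistable k X L C d)
    (hCp : ∀ q, ShStab.IsHilbPoly k X L C q → RedEq d q pE) (g : U ⟶ C) :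
    GoodSub k L d pE (kernel.ι g ≫ a) := by
  haveI := h.mono
  haveI : IsNoetherian X := CurveCohLib.isNoetherian_of_proper (k := k)
  have hU := h.semistable hL hE hpE h0
  have hαE := HilbPoly.alpha_pos hL hE.1 (HilbPoly.dim_of_isPure hE.2.2.1 hE.1 hE.2.1) hpE
  obtain ⟨pU, hpU, -, -⟩ := HilbPoly.exists_hilb (k := k) hL.1 h.coh (HilbPoly.dim_le_of_isPure hU.2.2.1 h.coh)
  obtain ⟨pC, hpC, -, -⟩ := HilbPoly.exists_hilb (k := k) hL.1 hC.1 (HilbPoly.dim_le_of_isPure hC.2.2.1 hC.1)
  have hUC : RedEq d pU pC := redEq_trans hαE.ne' (h.red pU hpU) (hCp pC hpC).symm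
  have hαU := HilbPoly.alpha_pos hL h.coh (HilbPoly.dim_of_isPure hU.2.2.1 h.coh h0) hpU
  refine ⟨mono_comp _ _, QCoh.isCoh_kernel h.coh hC.1 g, fun p hp => ?_⟩
  rcases (HilbPoly.kernel_cokernel hL hU hC hpU hpC hUC g).1 with hz | ⟨-, hr⟩
  · rw [HilbPoly.isHilbPoly_unique hp (HilbPoly.hilb_isZero hz)]
    simp [RedEq, alpha]
  · exact redEq_trans hαU.ne' (hr p hp) (h.red pU hpU)

/-- A stable quotient of a good submodule is a factor of the filtration. -/
theorem exists_factor_iso (hL : CohB1.IsAmple L) (hE : ShStab.IsSemistable k X L E d)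
    (hpE : ShStab.IsHilbPoly k X L E pE) (s : LTSeries (Subobject E)) (hs : ShStab.IsJHFiltration k X L E d s)
    {U T : X.Modules} {a : U ⟶ E} (hU : GoodSub k L d pE a) (q : U ⟶ T) [Epi q]
    (hT : ShStab.IsStable k X L T d) (hTp : ∀ p, ShStab.IsHilbPoly k X L T p → RedEq d p pE) :
    ∃ j, Nonempty (factor s j ≅ T) := by
  have hαE := HilbPoly.alpha_pos hL hE.1 (HilbPoly.dim_of_isPure hE.2.2.1 hE.1 hE.2.1) hpE
  haveI : IsNoetherian X := CurveCohLib.isNoetherian_of_proper (k := k)
  suffices h : ∀ (i : Fin (s.length + 1)) (U : X.Modules) (a : U ⟶ (s i : X.Modules)) (q : U ⟶ T), Epi q →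
      GoodSub k L d pE (a ≫ (s i).arrow) → ∃ j, Nonempty (factor s j ≅ T) by
    have hlast : s (Fin.last _) = ⊤ := hs.2.1
    haveI : IsIso (s (Fin.last _)).arrow := (Subobject.isIso_arrow_iff_eq_top _).2 hlast
    exact h _ U (a ≫ inv (s (Fin.last _)).arrow) q inferInstance
      (by rwa [Category.assoc, IsIso.inv_hom_id, Category.comp_id])
  intro i
  induction i using Fin.induction with
  | zero =>
    intro U a q hq hU
    haveI := hq
    have h0 : s 0 = ⊥ := hs.1
    have hz : IsZero ((s 0 : Subobject E) : X.Modules) := by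
      rw [h0]; exact (isZero_zero _).of_iso Subobject.botCoeIsoZero
    haveI : Mono a := by haveI := hU.mono; exact mono_of_mono a (s 0).arrow
    exact absurd (IsZero.of_epi q (IsZero.of_mono a hz)) hT.2.1
  | succ j ih =>
    intro U a q hq hU
    haveI := hq
    haveI : Mono a := by haveI := hU.mono; exact mono_of_mono a (s j.succ).arrow
    let ι := Subobject.ofLE (s j.castSucc) (s j.succ) (le_of_lt (s.step j))
    obtain ⟨hC, hCp⟩ := hs.2.2 j
    have hCp' : ∀ p, ShStab.IsHilbPoly k X L (factor s j) p → RedEq d p pE := fun p hp => hCp p pE hp hpE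
    by_cases hf : a ≫ cokernel.π ι = 0
    · have hfac : Abelian.monoLift ι a hf ≫ ι = a := Abelian.monoLift_comp ι a hf
      refine ih U (Abelian.monoLift ι a hf) q hq ?_
      have : Abelian.monoLift ι a hf ≫ (s j.castSucc).arrow = a ≫ (s j.succ).arrow := by
        rw [← Subobject.ofLE_arrow (le_of_lt (s.step j)), ← Category.assoc, hfac]
      rwa [this]
    · let f : U ⟶ factor s j := a ≫ cokernel.π ι
      have hU0 : ¬ IsZero U := fun hz => hf (hz.eq_of_src _ _)
      have hUs := hU.semistable hL hE hpE hU0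
      have hCs := HilbPoly.isSemistable_of_isStable hC
      have hK := hU.kernel hL hE hpE hU0 hCs hCp' f
      by_cases hKq : kernel.ι f ≫ q = 0
      · obtain ⟨pU, hpU, -, -⟩ := HilbPoly.exists_hilb (k := k) hL.1 hU.coh
          (HilbPoly.dim_le_of_isPure hUs.2.2.1 hU.coh)
        obtain ⟨pC, hpC, -, -⟩ := HilbPoly.exists_hilb (k := k) hL.1 hC.1
          (HilbPoly.dim_le_of_isPure hC.2.2.1 hC.1)
        obtain ⟨pT, hpT, -, -⟩ := HilbPoly.exists_hilb (k := k) hL.1 hT.1
          (HilbPoly.dim_le_of_isPure hT.2.2.1 hT.1)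
        haveI : Epi f := (HilbPoly.mono_and_epi hL hUs hCs hpU hpC
          (redEq_trans hαE.ne' (hU.red pU hpU) (hCp' pC hpC).symm) (show f ≠ 0 from hf)).2 hC
        let g : factor s j ⟶ T := Abelian.epiDesc f q hKq
        have hg : f ≫ g = q := Abelian.comp_epiDesc f q hKq
        have hg0 : g ≠ 0 := fun h0 => hT.2.1 (IsZero.of_epi_eq_zero q (by rw [← hg, h0, comp_zero]))
        have hme := HilbPoly.mono_and_epi hL hCs (HilbPoly.isSemistable_of_isStable hT) hpC hpT
          (redEq_trans hαE.ne' (hCp' pC hpC) (hTp pT hpT).symm) hg0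
        haveI := hme.1 hC
        haveI := hme.2 hT
        haveI := isIso_of_mono_of_epi g
        exact ⟨j, ⟨asIso g⟩⟩
      · have hw : (kernel.ι f ≫ a) ≫ cokernel.π ι = 0 := by rw [Category.assoc]; exact kernel.condition f
        have hfac : Abelian.monoLift ι (kernel.ι f ≫ a) hw ≫ ι = kernel.ι f ≫ a := Abelian.monoLift_comp _ _ _
        have hK0 : ¬ IsZero (Limits.kernel f) := fun hz => hKq (hz.eq_of_src _ _)
        have hKs := hK.semistable hL hE hpE hK0
        obtain ⟨pK, hpK, -, -⟩ := HilbPoly.exists_hilb (k := k) hL.1 hK.coh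
          (HilbPoly.dim_le_of_isPure hKs.2.2.1 hK.coh)
        obtain ⟨pT, hpT, -, -⟩ := HilbPoly.exists_hilb (k := k) hL.1 hT.1
          (HilbPoly.dim_le_of_isPure hT.2.2.1 hT.1)
        have hepi : Epi (kernel.ι f ≫ q) := (HilbPoly.mono_and_epi hL hKs (HilbPoly.isSemistable_of_isStable hT)
          hpK hpT (redEq_trans hαE.ne' (hK.red pK hpK) (hTp pT hpT).symm) hKq).2 hT
        refine ih (Limits.kernel f) (Abelian.monoLift ι (kernel.ι f ≫ a) hw) (kernel.ι f ≫ q) hepi ?_
        have : Abelian.monoLift ι (kernel.ι f ≫ a) hw ≫ (s j.castSucc).arrow =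
            kernel.ι f ≫ a ≫ (s j.succ).arrow := by
          rw [← Subobject.ofLE_arrow (le_of_lt (s.step j)), ← Category.assoc, hfac, Category.assoc]
        rwa [this]

/-- The terms of a filtration with factors of the reduced polynomial are good. -/
theorem goodSub_series (hL : CohB1.IsAmple L) (hE : ShStab.IsSemistable k X L E d) {G : X.Modules}
    (hG : Coh.IsCoh G) {pG : Polynomial ℚ} (hpG : ShStab.IsHilbPoly k X L G pG)
    (hdG : topologicalKrullDim ↥(CohB1.support G) ≤ (d : WithBot ℕ∞)) (t : LTSeries (Subobject G))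
    (ht0 : t.head = ⊥) (htc : ∀ i, Coh.IsCoh (factor t i))
    (hts : ∀ i p, ShStab.IsHilbPoly k X L (factor t i) p → RedEq d p pE) (i : Fin (t.length + 1)) :
    GoodSub k L d pE (t i).arrow := by
  haveI : IsNoetherian X := CurveCohLib.isNoetherian_of_proper (k := k)
  induction i using Fin.induction with
  | zero =>
    have h0 : t 0 = ⊥ := ht0
    have hz : IsZero ((t 0 : Subobject G) : X.Modules) := by
      rw [h0]; exact (isZero_zero _).of_iso Subobject.botCoeIsoZero
    refine ⟨inferInstance, HilbPoly.isCoh_of_iso (IsZero.iso (isZero_kernel_of_mono (𝟙 G)) hz)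
      (QCoh.isCoh_kernel hG hG (𝟙 G)), fun p hp => ?_⟩
    rw [HilbPoly.isHilbPoly_unique hp (HilbPoly.hilb_isZero hz)]
    simp [RedEq, alpha]
  | succ j ih =>
    have hSE : (ShortComplex.mk (Subobject.ofLE (t j.castSucc) (t j.succ) (t.step j).le) (cokernel.π _)
        (cokernel.condition _)).ShortExact :=
      .mk' (ShortComplex.exact_of_g_is_cokernel _ (cokernelIsCokernel _)) inferInstance inferInstance
    have hc : Coh.IsCoh (t j.succ : X.Modules) :=
      HilbPoly.mu_extension.isCoh_ext hSE ih.coh (htc j) (QCoh.isQCoh_X₂ hSE ih.coh.1 (htc j).1)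
    refine ⟨inferInstance, hc, fun p hp => ?_⟩
    have hd := HilbPoly.dim_mono hc hG (t j.succ).arrow hdG
    obtain ⟨p1, hp1, -, -⟩ := HilbPoly.exists_hilb (k := k) hL.1 ih.coh
      (HilbPoly.dim_mono ih.coh hc (Subobject.ofLE (t j.castSucc) (t j.succ) (t.step j).le) hd)
    obtain ⟨p3, hp3, -, -⟩ := HilbPoly.exists_hilb (k := k) hL.1 (htc j)
      (HilbPoly.dim_epi hc (htc j) (cokernel.π _) hd)
    rw [HilbPoly.isHilbPoly_unique hp (HilbPoly.hilb_add hL.1 hSE ih.coh hc (htc j) hp1 hp3)]
    have h1 : alpha d pE • p1 = alpha d p1 • pE := ih.red p1 hp1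
    have h3 : alpha d pE • p3 = alpha d p3 • pE := hts j p3 hp3
    show alpha d pE • (p1 + p3) = alpha d (p1 + p3) • pE
    rw [smul_add, h1, h3, ← add_smul]
    congr 1
    simp only [alpha, Polynomial.coeff_add]; ring

theorem projective_stalk_iso (x : X) {A B : X.Modules} (e : A ≅ B)
    [Module.Projective (X.presheaf.stalk x) ((DerSch.stalkFunctor X x).obj A)] :
    Module.Projective (X.presheaf.stalk x) ((DerSch.stalkFunctor X x).obj B) :=
  Module.Projective.of_equiv ((DerSch.stalkFunctor X x).mapIso e).toLinearEquiv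

/-- A graded module with projective stalks of the factors is free nearby. -/
theorem exists_nhd_of_projective [IsNoetherian X] {G : X.Modules} (t : LTSeries (Subobject G))
    (htc : ∀ i, Coh.IsCoh (factor t i)) (x : X)
    (hp : ∀ i, Module.Projective (X.presheaf.stalk x) ((DerSch.stalkFunctor X x).obj (factor t i))) :
    ∃ U : X.Opens, x ∈ U ∧ FlatMod.IsFinLocFree ((grObj t).restrict U.ι) := by
  classical
  haveI : HasFiniteBiproducts X.Modules := HasFiniteBiproducts.of_hasFiniteProducts
  have hgc : Coh.IsCoh (grObj t) := HilbPoly.isCoh_of_iso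
    (biproduct.whiskerEquiv (f := factor t ∘ ULift.down) (g := factor t) Equiv.ulift.{u} (fun _ => Iso.refl _) ≪≫
      biproduct.isoCoproduct (factor t))
    (QCoh.isCoh_biproduct (β := ULift.{u} (Fin t.length)) _ fun j => htc j.down)
  let st := DerSch.stalkFunctor X x
  haveI : ∀ i, Module.Projective (X.presheaf.stalk x) (st.obj (factor t i)) := hp
  haveI : Module.Projective (X.presheaf.stalk x) (st.obj (grObj t)) :=
    Module.Projective.of_equiv
      (PreservesCoproduct.iso st (factor t) ≪≫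
        ModuleCat.coprodIsoDirectSum (fun i => st.obj (factor t i))).symm.toLinearEquiv
  haveI : Module.Finite (X.presheaf.stalk x) ((grObj t).presheaf.stalk x) :=
    QCoh.finite_stalk_of_isFT hgc.1 hgc.2 x
  haveI : Module.Flat (X.presheaf.stalk x) ((grObj t).presheaf.stalk x) :=
    (inferInstance : Module.Flat (X.presheaf.stalk x) (st.obj (grObj t)))
  have hfp := KZ.LFRes.isFP_of_isCoh hgc
  haveI : Module.Free (X.presheaf.stalk x) ((grObj t).presheaf.stalk x) := Module.free_of_flat_of_isLocalRing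
  obtain ⟨U, n, hx, ⟨e⟩⟩ := QCoh.exists_free_nhd_of_free_stalk hfp x
  exact ⟨U, hx, isFinLocFree_of_free_restrict e⟩

end Groth.Agent.HomVanish
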